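import Cfsg.Agent.Lib.Helper12.ONL.Index
import Cfsg.Agent.Lib.Helper12.Ord.ONOrder

/-!
The subgroup generated by `a`, ..., `f` of the presented O'Nan group has a normal subgroup of index two
isomorphic to the projective special linear group of degree three over the field of seven elements (helper12).
-/

set_option autoImplicit false

namespace Cfsg.Agent.Lib.Helper12.ONL

open Matrix Cfsg.Spor
open Cfsg.Agent.Lib.Helper12.Ord Cfsg.Agent.Lib.Helper12.TCG.ONx122760

theorem main : ∃ N : Subgroup ↥Hs, N.Normal ∧ N.index = 2 ∧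
    Nonempty (N ≃* Matrix.ProjectiveSpecialLinearGroup (Fin 3) (ZMod 7)) := by
  obtain ⟨f1, c1⟩ := ONOrder.finite_card_P1
  obtain ⟨φ0, hφ0⟩ := subpres_hom ON.edges ON.extra ONP1.edges ONP1.extra ONP1.ι ONP1.sub_nodes
    ONP1.sub_lab ONP1.sub_extra
  have hr : φ0.range = Hs := by
    rw [hφ0]
    unfold Hs
    rw [ONOrder.S_eq]
    rfl
  have hsurj : Function.Surjective φ0.rangeRestrict := φ0.rangeRestrict_surjective
  have hcardr : Nat.card φ0.range = 3753792 := by
    rw [hr]
    exact ONOrder.card_Hs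
  have hfin : Finite φ0.range := Finite.of_surjective _ hsurj
  have hbij : Function.Bijective φ0.rangeRestrict :=
    (Nat.bijective_iff_surjective_and_card _).2
      ⟨hsurj, le_antisymm (c1.trans hcardr.ge) (Nat.card_le_card_of_surjective _ hsurj)⟩
  let e : ONP1.Grp ≃* ↥Hs := (MulEquiv.ofBijective _ hbij).trans (MulEquiv.subgroupCongr hr)
  refine ⟨N'.map e.toMonoidHom, ?_, ?_, ?_⟩
  · exact Subgroup.Normal.map N'_normal _ e.surjective
  · exact (Subgroup.index_map_of_bijective (f := e.toMonoidHom) e.bijective N').trans index_N'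
  · obtain ⟨g⟩ := exists_equiv f1 c1
    exact ⟨(e.subgroupMap N').symm.trans g⟩

end Cfsg.Agent.Lib.Helper12.ONL
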