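import Cfsg.Agent.Lib.Helper12.ONL.Theta

/-!
The subgroup of index two of ONP1 and the order of the projective special linear group (helper12).
-/

set_option autoImplicit false

namespace Cfsg.Agent.Lib.Helper12.ONL

open Matrix Cfsg.Spor
open Cfsg.Agent.Lib.Helper12.Ord

/-- a central element of order three -/
def z2 : S := ⟨!![2,0,0;0,2,0;0,0,2], by rw [Matrix.det_fin_three]; decide⟩

/-- its inverse -/
def z4 : S := ⟨!![4,0,0;0,4,0;0,0,4], by rw [Matrix.det_fin_three]; decide⟩

theorem z2_mem_center : z2 ∈ Subgroup.center S := mem_center_of_isSc z2 (by decide)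

theorem tI_z2 : tI z2 = z4 := by
  refine tI_eq_of_mul _ _ (Subtype.ext ?_) (by decide)
  show (z4 * z2).val = (1 : Matrix (Fin 3) (Fin 3) (ZMod 7))
  decide

theorem tI_not_mem : tI ∉ Inn S := by
  rintro ⟨g, hg⟩
  have h1 := tI_z2
  have h2 : MulAut.conj g z2 = z2 := by
    rw [MulAut.conj_apply, Subgroup.mem_center_iff.1 z2_mem_center g, mul_inv_cancel_right]
  rw [← hg, h2] at h1
  have h3 : z2.val = z4.val := congrArg Subtype.val h1
  revert h3
  decide

/-- the homomorphism to the outer automorphism group -/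
noncomputable def ψ : ONP1.Grp →* MulAut S ⧸ Inn S := (QuotientGroup.mk' (Inn S)).comp Θ

theorem ψ_ker : ψ.ker = N' := by
  ext n
  rw [MonoidHom.mem_ker]
  show (QuotientGroup.mk (Θ n) : MulAut S ⧸ Inn S) = 1 ↔ Θ n ∈ Inn S
  exact QuotientGroup.eq_one_iff _

theorem ψ_of (x : ONP1.Gen) : ψ (PresentedGroup.of x) = (QuotientGroup.mk tI : MulAut S ⧸ Inn S) := by
  show (QuotientGroup.mk (Θ (PresentedGroup.of x)) : MulAut S ⧸ Inn S) = _
  rw [Θ_of]
  unfold φ tw
  rw [QuotientGroup.mk_mul, (QuotientGroup.eq_one_iff _).2 (conj_mem_Inn _), one_mul]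

theorem ψ_range : ψ.range = Subgroup.zpowers (QuotientGroup.mk tI : MulAut S ⧸ Inn S) := by
  rw [MonoidHom.range_eq_map, ← PresentedGroup.closure_range_of, MonoidHom.map_closure,
    Subgroup.zpowers_eq_closure]
  congr 1
  ext q
  constructor
  · rintro ⟨_, ⟨x, rfl⟩, rfl⟩
    exact ψ_of x
  · intro hq
    exact ⟨PresentedGroup.of ONP1.Gen.a, ⟨ONP1.Gen.a, rfl⟩, (ψ_of _).trans hq.symm⟩

theorem index_N' : N'.index = 2 := by
  rw [← ψ_ker, Subgroup.index_ker, ψ_range, Nat.card_zpowers]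
  have : Fact (Nat.Prime 2) := ⟨Nat.prime_two⟩
  refine orderOf_eq_prime ?_ ?_
  · rw [← QuotientGroup.mk_pow, pow_two, tI_sq]
    rfl
  · rw [Ne, QuotientGroup.eq_one_iff]
    exact tI_not_mem

theorem ker_det_eq_range :
    (Matrix.GeneralLinearGroup.det : GL (Fin 3) (ZMod 7) →* (ZMod 7)ˣ).ker =
      (Matrix.SpecialLinearGroup.toGL : S →* GL (Fin 3) (ZMod 7)).range := by
  ext x
  rw [MonoidHom.mem_ker, MonoidHom.mem_range]
  constructor
  · intro hx
    have hdet : (x : Matrix (Fin 3) (Fin 3) (ZMod 7)).det = 1 := by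
      have : ((Matrix.GeneralLinearGroup.det x : (ZMod 7)ˣ) : ZMod 7) = 1 := by rw [hx, Units.val_one]
      exact this
    refine ⟨⟨_, hdet⟩, ?_⟩
    apply Units.ext
    rfl
  · rintro ⟨s, rfl⟩
    apply Units.ext
    show ((Matrix.SpecialLinearGroup.toGL s : GL (Fin 3) (ZMod 7)) : Matrix (Fin 3) (Fin 3) (ZMod 7)).det = 1
    rw [Matrix.SpecialLinearGroup.coe_GL_coe_matrix]
    exact s.2

theorem card_S : Nat.card S = 5630688 := by
  have h1 := Subgroup.card_mul_index
    (Matrix.GeneralLinearGroup.det : GL (Fin 3) (ZMod 7) →* (ZMod 7)ˣ).ker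
  rw [Subgroup.index_ker, MonoidHom.range_eq_top.mpr Matrix.GeneralLinearGroup.det_surjective,
    Nat.card_congr Subgroup.topEquiv.toEquiv, Nat.card_units, Nat.card_eq_fintype_card (α := ZMod 7),
    ker_det_eq_range,
    ← Nat.card_congr (MonoidHom.ofInjective Matrix.SpecialLinearGroup.toGL_injective).toEquiv,
    Matrix.card_GL_field, ZMod.card, Fin.prod_univ_three] at h1
  have h2 : (7 ^ 3 - 7 ^ ((0 : Fin 3) : ℕ)) * (7 ^ 3 - 7 ^ ((1 : Fin 3) : ℕ)) *
      (7 ^ 3 - 7 ^ ((2 : Fin 3) : ℕ)) = 33784128 := by norm_num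
  have h3 := h1.trans h2
  clear h1 h2
  show Nat.card (Matrix.SpecialLinearGroup (Fin 3) (ZMod 7)) = 5630688
  omega

theorem card_center : Nat.card (Subgroup.center S) = 3 := by
  rw [Nat.card_congr (Matrix.SpecialLinearGroup.center_equiv_rootsOfUnity' (0 : Fin 3)).toEquiv,
    Fintype.card_fin]
  have h : IsPrimitiveRoot (2 : ZMod 7) 3 :=
    IsPrimitiveRoot.mk_of_lt 2 (by norm_num) (by decide)
      (by intro l h0 h3; interval_cases l <;> decide)
  exact h.card_rootsOfUnity

theorem card_PSL : Nat.card (Matrix.ProjectiveSpecialLinearGroup (Fin 3) (ZMod 7)) = 1876896 := by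
  have h1 := Subgroup.card_eq_card_quotient_mul_card_subgroup (Subgroup.center S)
  rw [card_S, card_center] at h1
  show Nat.card (S ⧸ Subgroup.center S) = 1876896
  omega

theorem card_Inn : Nat.card (Inn S) = 1876896 := by
  rw [Nat.card_congr (innEquiv (G := S)).toEquiv]
  exact card_PSL

/-- the subgroup of index two is the projective special linear group -/
theorem exists_equiv (hfin : Finite ONP1.Grp) (hcard : Nat.card ONP1.Grp ≤ 3753792) :
    Nonempty (N' ≃* Matrix.ProjectiveSpecialLinearGroup (Fin 3) (ZMod 7)) := by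
  have h1 := N'.card_mul_index
  rw [index_N'] at h1
  have h2 : Nat.card N' ≤ Nat.card (Inn S) := by
    rw [card_Inn]
    omega
  have h3 : Function.Bijective Θ' :=
    (Nat.bijective_iff_surjective_and_card Θ').2
      ⟨Θ'_surjective, le_antisymm h2 (Nat.card_le_card_of_surjective Θ' Θ'_surjective)⟩
  exact ⟨(MulEquiv.ofBijective Θ' h3).trans innEquiv⟩

end Cfsg.Agent.Lib.Helper12.ONL
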