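import Cfsg.Agent.Lib.Helper12.ONL.Twist
import Cfsg.Agent.Lib.Helper12.Ord.ONP1

/-!
Six polarities of the projective plane of order seven satisfying the relations of ONP1 (helper12).
-/

set_option autoImplicit false

namespace Cfsg.Agent.Lib.Helper12.ONL

open Matrix Cfsg.Spor
open Cfsg.Agent.Lib.Helper12.Ord

/-- the special linear group of degree three over the field of seven elements -/
abbrev S : Type := Matrix.SpecialLinearGroup (Fin 3) (ZMod 7)

/-- the transpose as a map of the group -/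
def trS (s : S) : S := ⟨s.val.transpose, by rw [Matrix.det_transpose]; exact s.2⟩

theorem trS_mul (s t : S) : trS (s * t) = trS t * trS s := by
  apply Subtype.ext
  show (s.val * t.val).transpose = t.val.transpose * s.val.transpose
  rw [Matrix.transpose_mul]

theorem trS_one : trS 1 = 1 := by
  apply Subtype.ext
  show (1 : Matrix (Fin 3) (Fin 3) (ZMod 7)).transpose = 1
  rw [Matrix.transpose_one]

theorem trS_trS (s : S) : trS (trS s) = s := by
  apply Subtype.ext
  show s.val.transpose.transpose = s.val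
  rw [Matrix.transpose_transpose]

theorem trS_inv (s : S) : trS s⁻¹ = (trS s)⁻¹ := by
  apply eq_inv_of_mul_eq_one_left
  rw [← trS_mul, mul_inv_cancel, trS_one]

/-- the transposed inverse, an automorphism of order two -/
def tI : MulAut S where
  toFun s := trS s⁻¹
  invFun s := trS s⁻¹
  left_inv s := by
    show trS (trS s⁻¹)⁻¹ = s
    rw [trS_inv, trS_trS, inv_inv]
  right_inv s := by
    show trS (trS s⁻¹)⁻¹ = s
    rw [trS_inv, trS_trS, inv_inv]
  map_mul' s t := by
    show trS (s * t)⁻¹ = trS s⁻¹ * trS t⁻¹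
    rw [_root_.mul_inv_rev, trS_mul]

theorem tI_apply (s : S) : tI s = trS s⁻¹ := rfl

theorem tI_sq : tI * tI = 1 := by
  apply MulEquiv.ext
  intro s
  rw [MulAut.mul_apply, MulAut.one_apply, tI_apply, tI_apply, trS_inv, trS_trS, inv_inv]

theorem tI_eq_of_mul (s t : S) (h : t * s = 1) (ht : t.val.transpose = t.val) : tI s = t := by
  rw [tI_apply, inv_eq_of_mul_eq_one_left h]
  exact Subtype.ext ht

/-- a matrix is a scalar matrix of determinant one -/
def IsSc (M : Matrix (Fin 3) (Fin 3) (ZMod 7)) : Prop :=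
  M = Matrix.scalar (Fin 3) (M 0 0) ∧ (M 0 0) ^ 3 = 1

instance : DecidablePred IsSc := fun M => by
  unfold IsSc
  infer_instance

theorem mem_center_of_isSc (s : S) (h : IsSc s.val) : s ∈ Subgroup.center S := by
  rw [Matrix.SpecialLinearGroup.mem_center_iff]
  exact ⟨s.val 0 0, by simpa using h.2, h.1.symm⟩

theorem conj_eq_of_smul (X Y : S) (r : ZMod 7) (h : X.val = r • Y.val) :
    MulAut.conj X = MulAut.conj Y := by
  have hz : X * Y⁻¹ ∈ Subgroup.center S := by
    rw [Matrix.SpecialLinearGroup.mem_center_iff]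
    refine ⟨r, ?_, ?_⟩
    · have h1 := X.2
      rw [h, Matrix.det_smul, Y.2, mul_one] at h1
      exact h1
    · show Matrix.scalar (Fin 3) r = X.val * (Y⁻¹).val
      have h2 : Y.val * (Y⁻¹).val = 1 := by
        have := congrArg Subtype.val (mul_inv_cancel Y)
        exact this
      rw [h, Matrix.smul_mul, h2]
      ext i j
      simp [Matrix.scalar_apply, Matrix.diagonal_apply, Matrix.one_apply]
  exact conj_eq_conj_of_center X Y (X * Y⁻¹) hz (by group)

/-- the matrices of the polarities -/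
def A : ONP1.Gen → S
  | .a => ⟨!![1,0,0;0,1,0;0,0,1], by rw [Matrix.det_fin_three]; decide⟩
  | .b => ⟨!![1,0,0;0,2,0;0,0,4], by rw [Matrix.det_fin_three]; decide⟩
  | .c => ⟨!![1,2,2;2,1,5;2,5,1], by rw [Matrix.det_fin_three]; decide⟩
  | .d => ⟨!![0,0,3;0,3,0;3,0,0], by rw [Matrix.det_fin_three]; decide⟩
  | .e => ⟨!![0,1,0;1,0,0;0,0,6], by rw [Matrix.det_fin_three]; decide⟩
  | .f => ⟨!![0,0,1;0,6,0;1,0,0], by rw [Matrix.det_fin_three]; decide⟩

/-- their inverses -/
def A' : ONP1.Gen → S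
  | .a => ⟨!![1,0,0;0,1,0;0,0,1], by rw [Matrix.det_fin_three]; decide⟩
  | .b => ⟨!![1,0,0;0,4,0;0,0,2], by rw [Matrix.det_fin_three]; decide⟩
  | .c => ⟨!![4,1,1;1,4,6;1,6,4], by rw [Matrix.det_fin_three]; decide⟩
  | .d => ⟨!![0,0,5;0,5,0;5,0,0], by rw [Matrix.det_fin_three]; decide⟩
  | .e => ⟨!![0,1,0;1,0,0;0,0,6], by rw [Matrix.det_fin_three]; decide⟩
  | .f => ⟨!![0,0,1;0,6,0;1,0,0], by rw [Matrix.det_fin_three]; decide⟩

theorem A'_mul_A (x : ONP1.Gen) : A' x * A x = 1 := by
  apply Subtype.ext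
  show (A' x * A x).val = (1 : Matrix (Fin 3) (Fin 3) (ZMod 7))
  cases x <;> decide

theorem A'_symm (x : ONP1.Gen) : (A' x).val.transpose = (A' x).val := by
  cases x <;> decide

theorem tI_A (x : ONP1.Gen) : tI (A x) = A' x := tI_eq_of_mul _ _ (A'_mul_A x) (A'_symm x)

/-- the six automorphisms of order two -/
def φ (x : ONP1.Gen) : MulAut S := tw tI (A x)

theorem φ_mul (x y : ONP1.Gen) : φ x * φ y = MulAut.conj (A x * A' y) := by
  unfold φ
  rw [tw_mul_tw tI tI_sq, tI_A]

set_option maxRecDepth 100000 in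
theorem cox_sc (x y : ONP1.Gen) : IsSc ((A x * A' y) ^ coxLabel ONP1.edges x y).val := by
  cases x <;> cases y <;> decide

theorem cox_rel (x y : ONP1.Gen) : (φ x * φ y) ^ coxLabel ONP1.edges x y = 1 := by
  rw [φ_mul, ← map_pow, conj_eq_one_iff]
  exact mem_center_of_isSc _ (cox_sc x y)

set_option maxRecDepth 100000 in
theorem extra_eq : A .a * A' .f = (A .c * A' .d) ^ 4 := by
  apply Subtype.ext
  show (A .a * A' .f).val = ((A .c * A' .d) ^ 4).val
  decide

end Cfsg.Agent.Lib.Helper12.ONL
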