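import Cfsg.Agent.Lib.Helper12.ONL.Mats
import Cfsg.Agent.Lib.Lead.SLn

/-!
The homomorphism from ONP1 to the automorphism group of the special linear group (helper12).
-/

set_option autoImplicit false

namespace Cfsg.Agent.Lib.Helper12.ONL

open Matrix Cfsg.Spor
open Cfsg.Agent.Lib.Helper12.Ord

instance fact_prime_seven : Fact (Nat.Prime 7) := ⟨by norm_num⟩

theorem lift_rel : ∀ r ∈ coxRelators ONP1.edges ∪ {r | r ∈ ONP1.extra}, FreeGroup.lift φ r = 1 := by
  rintro r (⟨x, _, y, _, rfl⟩ | hr)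
  · rw [map_pow, map_mul, FreeGroup.lift_apply_of, FreeGroup.lift_apply_of]
    exact cox_rel x y
  · have hr' : r = ONP1.a * ONP1.f * ((ONP1.c * ONP1.d) ^ 4)⁻¹ := by
      simpa only [ONP1.extra, List.mem_cons, List.not_mem_nil, or_false, Set.mem_ofPred_eq] using hr
    subst hr'
    simp only [map_mul, map_inv, map_pow, FreeGroup.lift_apply_of]
    rw [φ_mul, φ_mul, ← map_pow, extra_eq, mul_inv_cancel]

/-- the homomorphism -/
noncomputable def Θ : ONP1.Grp →* MulAut S := PresentedGroup.toGroup lift_rel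

theorem Θ_of (x : ONP1.Gen) : Θ (PresentedGroup.of x) = φ x := PresentedGroup.toGroup.of lift_rel

/-- a word in pairs of generators -/
noncomputable def wd (l : List (ONP1.Gen × ONP1.Gen)) : ONP1.Grp :=
  (l.map fun p => PresentedGroup.of p.1 * PresentedGroup.of p.2).prod

/-- the matrix of a word in pairs of generators -/
def pr (l : List (ONP1.Gen × ONP1.Gen)) : S := (l.map fun p => A p.1 * A' p.2).prod

theorem Θ_wd (l : List (ONP1.Gen × ONP1.Gen)) : Θ (wd l) = MulAut.conj (pr l) := by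
  induction l with
  | nil => simp [wd, pr]
  | cons p l ih =>
    have h1 : wd (p :: l) = PresentedGroup.of p.1 * PresentedGroup.of p.2 * wd l := by
      simp [wd]
    have h2 : pr (p :: l) = A p.1 * A' p.2 * pr l := by
      simp [pr]
    rw [h1, h2, map_mul, map_mul, map_mul, ih, Θ_of, Θ_of, φ_mul]

theorem tv_pow {i j : Fin 3} (h : i ≠ j) (k : ℕ) :
    (SpecialLinearGroup.transvection h (1 : ZMod 7)) ^ k =
      SpecialLinearGroup.transvection h (k : ZMod 7) := by
  induction k with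
  | zero =>
    rw [pow_zero, Nat.cast_zero]
    apply Subtype.ext
    show (1 : Matrix (Fin 3) (Fin 3) (ZMod 7)) = Matrix.transvection i j 0
    rw [Matrix.transvection_zero]
  | succ k ih =>
    rw [pow_succ, ih]
    apply Subtype.ext
    show Matrix.transvection i j (k : ZMod 7) * Matrix.transvection i j 1 =
      Matrix.transvection i j ((k + 1 : ℕ) : ZMod 7)
    rw [Matrix.transvection_mul_transvection_same (i := i) (j := j) h, Nat.cast_succ]

theorem tv_mem_aux (i j : Fin 3) (h : i ≠ j) (l : List (ONP1.Gen × ONP1.Gen)) (r : ZMod 7)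
    (hl : (pr l).val = r • Matrix.transvection i j (1 : ZMod 7)) :
    MulAut.conj (SpecialLinearGroup.transvection h (1 : ZMod 7)) ∈ Θ.range := by
  refine ⟨wd l, ?_⟩
  rw [Θ_wd]
  exact conj_eq_of_smul _ _ r hl

set_option maxRecDepth 100000 in
theorem tv_mem (i j : Fin 3) (h : i ≠ j) :
    MulAut.conj (SpecialLinearGroup.transvection h (1 : ZMod 7)) ∈ Θ.range := by
  fin_cases i <;> fin_cases j
  · exact absurd rfl h
  · exact tv_mem_aux _ _ h [(.a,.b),(.c,.d),(.c,.b),(.d,.e),(.d,.c),(.b,.d),(.c,.b),(.e,.d),(.c,.b),(.a,.d),(.c,.e),(.d,.c),(.b,.a)] 4 (by decide)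
  · exact tv_mem_aux _ _ h [(.b,.a),(.c,.e),(.d,.c),(.b,.f),(.e,.d),(.c,.b),(.d,.c),(.b,.d),(.e,.d),(.c,.b),(.d,.c),(.e,.d),(.c,.b),(.f,.e)] 1 (by decide)
  · exact tv_mem_aux _ _ h [(.b,.a),(.c,.d),(.c,.b),(.e,.d),(.c,.b),(.d,.c),(.b,.d),(.e,.d),(.c,.b),(.d,.c),(.e,.d),(.c,.b)] 4 (by decide)
  · exact absurd rfl h
  · exact tv_mem_aux _ _ h [(.a,.b),(.a,.d),(.c,.d),(.c,.b),(.e,.d),(.c,.b),(.d,.c),(.b,.d),(.e,.d),(.c,.b),(.d,.c),(.e,.d),(.c,.b),(.a,.d)] 4 (by decide)
  · exact tv_mem_aux _ _ h [(.a,.b),(.a,.e),(.d,.c),(.d,.c),(.b,.e),(.d,.c),(.b,.d),(.c,.b),(.d,.e),(.d,.c),(.b,.d),(.c,.e),(.d,.c),(.b,.a),(.d,.e)] 1 (by decide)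
  · exact tv_mem_aux _ _ h [(.b,.a),(.c,.d),(.c,.b),(.f,.e),(.d,.c),(.b,.d),(.c,.b),(.d,.e),(.d,.c),(.b,.d),(.c,.e),(.d,.c),(.b,.f)] 4 (by decide)
  · exact absurd rfl h

theorem conj_mem_range (s : S) : MulAut.conj s ∈ Θ.range := by
  have h1 : (Θ.range.comap (MulAut.conj : S →* MulAut S)) = ⊤ := by
    rw [eq_top_iff, ← Cfsg.Agent.Lib.Lead.SL_closure_transvections, Subgroup.closure_le]
    rintro _ ⟨i, j, h, c, rfl⟩
    show MulAut.conj (SpecialLinearGroup.transvection h c) ∈ Θ.range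
    have h2 : SpecialLinearGroup.transvection h c =
        (SpecialLinearGroup.transvection h (1 : ZMod 7)) ^ c.val := by
      rw [tv_pow, ZMod.natCast_zmod_val]
    rw [h2, map_pow]
    exact pow_mem (tv_mem i j h) _
  have h3 : s ∈ (Θ.range.comap (MulAut.conj : S →* MulAut S)) := by
    rw [h1]
    exact Subgroup.mem_top s
  exact h3

/-- the subgroup of index two -/
noncomputable def N' : Subgroup ONP1.Grp := (Inn S).comap Θ

instance N'_normal : N'.Normal := by
  unfold N'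
  infer_instance

/-- the restriction of the homomorphism -/
noncomputable def Θ' : N' →* Inn S := Θ.subgroupComap (Inn S)

theorem Θ'_surjective : Function.Surjective Θ' := by
  rintro ⟨_, ⟨s, rfl⟩⟩
  obtain ⟨n, hn⟩ := conj_mem_range s
  have hn' : n ∈ N' := by
    show Θ n ∈ Inn S
    rw [hn]
    exact conj_mem_Inn s
  exact ⟨⟨n, hn'⟩, Subtype.ext hn⟩

end Cfsg.Agent.Lib.Helper12.ONL
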