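import Mathlib

/-!
Inner automorphisms twisted by a fixed automorphism of order two (helper12).
-/

set_option autoImplicit false

namespace Cfsg.Agent.Lib.Helper12.ONL

section
variable {G : Type*} [Group G]

/-- the group of inner automorphisms -/
def Inn (G : Type*) [Group G] : Subgroup (MulAut G) := (MulAut.conj : G →* MulAut G).range

theorem conj_mem_Inn (g : G) : MulAut.conj g ∈ Inn G := ⟨g, rfl⟩

theorem aut_mul_conj (σ : MulAut G) (g : G) : σ * MulAut.conj g = MulAut.conj (σ g) * σ := by
  apply MulEquiv.ext
  intro x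
  simp only [MulAut.mul_apply, MulAut.conj_apply, map_mul, map_inv]

instance Inn_normal : (Inn G).Normal := by
  constructor
  rintro _ ⟨g, rfl⟩ σ
  refine ⟨σ g, ?_⟩
  rw [aut_mul_conj, mul_inv_cancel_right]

theorem conj_eq_one_iff (z : G) : MulAut.conj z = 1 ↔ z ∈ Subgroup.center G := by
  rw [Subgroup.mem_center_iff]
  constructor
  · intro h x
    have := congrArg (fun σ : MulAut G => σ x) h
    simp only [MulAut.conj_apply, MulAut.one_apply] at this
    rw [← this, inv_mul_cancel_right, this]
  · intro h
    apply MulEquiv.ext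
    intro x
    rw [MulAut.conj_apply, MulAut.one_apply, ← h x, mul_inv_cancel_right]

theorem conj_ker : (MulAut.conj : G →* MulAut G).ker = Subgroup.center G := by
  ext z
  rw [MonoidHom.mem_ker, conj_eq_one_iff]

/-- the inner automorphism group is the quotient by the centre -/
noncomputable def innEquiv : Inn G ≃* G ⧸ Subgroup.center G :=
  (QuotientGroup.quotientKerEquivRange (MulAut.conj : G →* MulAut G)).symm.trans
    (QuotientGroup.quotientMulEquivOfEq conj_ker)

/-- an inner automorphism followed by a fixed automorphism -/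
def tw (σ : MulAut G) (c : G) : MulAut G := MulAut.conj c * σ

theorem tw_mul_tw (σ : MulAut G) (hσ : σ * σ = 1) (c d : G) :
    tw σ c * tw σ d = MulAut.conj (c * σ d) := by
  unfold tw
  rw [mul_assoc, ← mul_assoc σ, aut_mul_conj, mul_assoc, hσ, mul_one, ← map_mul]

theorem tw_mul_tw_pow (σ : MulAut G) (hσ : σ * σ = 1) (c d : G) (m : ℕ)
    (h : (c * σ d) ^ m ∈ Subgroup.center G) : (tw σ c * tw σ d) ^ m = 1 := by
  rw [tw_mul_tw σ hσ, ← map_pow, conj_eq_one_iff]
  exact h

theorem conj_eq_conj_of_center (x y z : G) (hz : z ∈ Subgroup.center G) (h : x = z * y) :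
    MulAut.conj x = MulAut.conj y := by
  rw [h, map_mul, (conj_eq_one_iff z).2 hz, one_mul]

end

end Cfsg.Agent.Lib.Helper12.ONL
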